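import Groth.Agent.VarBC.Basic
import Groth.Agent.AbVarLib.Rigidity
import Groth.Agent.AbVarLib.H0Field
import Groth.Agent.CAlg48.SepGen

/-!
Global functions of proper schemes over a field.
-/

set_option autoImplicit false
universe u

open CategoryTheory Limits AlgebraicGeometry TensorProduct
open Groth.Agent.FBase.BC

namespace Groth.Agent.VarBC.H0

/-- A connected scheme has no nontrivial idempotent global function. -/
lemma isIdempotentElem_eq {X : Scheme.{u}} [ConnectedSpace X] {e : Γ(X, ⊤)}
    (he : IsIdempotentElem e) : e = 0 ∨ e = 1 := by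
  have hd : X.basicOpen e ⊓ X.basicOpen (1 - e) = ⊥ := by
    rw [← Scheme.basicOpen_mul, he.mul_one_sub_self, Scheme.basicOpen_zero]
  have hu : ∀ x, x ∈ X.basicOpen e ∨ x ∈ X.basicOpen (1 - e) := by
    intro x
    rw [Scheme.mem_basicOpen_top, Scheme.mem_basicOpen_top]
    refine IsLocalRing.isUnit_or_isUnit_of_add_one ?_
    rw [← map_add, add_sub_cancel, map_one]
  have hclopen : IsClopen (X.basicOpen e : Set X) := by
    refine ⟨⟨?_⟩, (X.basicOpen e).isOpen⟩
    have hc : (X.basicOpen e : Set X)ᶜ = (X.basicOpen (1 - e) : Set X) := by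
      ext x
      exact ⟨fun hx ↦ (hu x).resolve_left hx, fun hx hx' ↦ hd.le ⟨hx', hx⟩⟩
    rw [hc]
    exact (X.basicOpen (1 - e)).isOpen
  have key : ∀ a b : Γ(X, ⊤), a * b = 0 → (∀ x, x ∈ X.basicOpen b) → a = 0 := fun a b hab hb ↦
    (X.toRingedSpace.isUnit_of_isUnit_germ ⊤ b fun x hx ↦
      (Scheme.mem_basicOpen_top X b x).mp (hb x)).mul_left_eq_zero.mp hab
  rcases isClopen_iff.mp hclopen with h | h
  · exact Or.inl (key e (1 - e) he.mul_one_sub_self fun x ↦ (hu x).resolve_left
      (fun hx ↦ (h.le hx : x ∈ (∅ : Set X))))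
  · refine Or.inr (sub_eq_zero.mp (key (1 - e) e ?_ fun x ↦ h.ge (Set.mem_univ x))).symm
    rw [mul_comm]
    exact he.mul_one_sub_self

/-- An integral algebra over a field without idempotents has only units and nilpotents. -/
lemma isUnit_or_isNilpotent {L A : Type u} [Field L] [CommRing A] [Algebra L A]
    [Algebra.IsIntegral L A] (h : ∀ e : A, IsIdempotentElem e → e = 0 ∨ e = 1) (a : A) :
    IsUnit a ∨ IsNilpotent a := by
  let B := Algebra.adjoin L {a}
  have : Module.Finite L B :=
    Module.Finite.iff_fg.mpr (Algebra.IsIntegral.isIntegral (R := L) a).fg_adjoin_singleton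
  have : IsArtinianRing B := IsArtinianRing.of_finite L B
  let b : B := ⟨a, Algebra.subset_adjoin rfl⟩
  obtain ⟨n, y, hy⟩ := IsArtinian.exists_pow_succ_smul_dvd b (1 : B)
  have hy' : a ^ n = a ^ (n + 1) * (y : A) := by
    have e := congrArg (Subtype.val : B → A) hy
    simp [smul_eq_mul, b] at e
    exact e.symm
  have hpow : ∀ m, a ^ n = a ^ (n + m) * (y : A) ^ m := by
    intro m
    induction m with
    | zero => simp
    | succ m ih =>
      conv_lhs => rw [ih, pow_add, hy']
      ring
  have he : IsIdempotentElem (a ^ n * (y : A) ^ n) := by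
    show a ^ n * (y : A) ^ n * (a ^ n * (y : A) ^ n) = a ^ n * (y : A) ^ n
    conv_rhs => rw [hpow n]
    ring
  rcases h _ he with h0 | h1
  · refine Or.inr ⟨n, ?_⟩
    rw [hpow n, pow_add, _root_.mul_assoc, h0, mul_zero]
  · rcases Nat.eq_zero_or_pos n with hn | hn
    · left
      subst hn
      exact .of_mul_eq_one (y : A) (by rw [← pow_one a, ← pow_one (y : A)]; simpa using hy'.symm)
    · left
      exact (isUnit_pow_iff hn.ne').mp (.of_mul_eq_one _ h1)

lemma isPrime_nilradical_of_unit_or_nilpotent {A : Type u} [CommRing A] [Nontrivial A]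
    (h : ∀ a : A, IsUnit a ∨ IsNilpotent a) : (nilradical A).IsPrime := by
  refine ⟨fun ht ↦ ?_, fun {a b} hab ↦ ?_⟩
  · exact not_isNilpotent_one (mem_nilradical.mp ((Ideal.eq_top_iff_one _).mp ht))
  · rcases h a with ha | ha
    · right
      obtain ⟨u, rfl⟩ := ha
      have := Ideal.mul_mem_left _ (↑u⁻¹ : A) hab
      simpa [← _root_.mul_assoc] using this
    · exact Or.inl (mem_nilradical.mpr ha)

variable (k : Type u) [Field k] (X : Scheme.{u}) [X.Over (Spec (CommRingCat.of k))]

/-- The structure of a `k`-algebra on global sections. -/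
noncomputable abbrev topAlgebra : Algebra k Γ(X, ⊤) :=
  (Coh.toGlobal (X ↘ Spec (CommRingCat.of k))).toAlgebra

attribute [local instance] topAlgebra

variable [IsProper (X ↘ Spec (CommRingCat.of k))] (L : Type u) [Field L] [Algebra k L]

/-- Global sections commute with field extensions. -/
lemma nonempty_tensorEquiv :
    ∃ e : Γ(X, ⊤) ⊗[k] L ≃+* Γ(pullback (X ↘ Spec (CommRingCat.of k)) (specMap k L), ⊤),
      ∀ c : L, e (1 ⊗ₜ c) = (pullback.snd (X ↘ Spec (CommRingCat.of k)) (specMap k L)).appTop.hom
        ((Scheme.ΓSpecIso (CommRingCat.of L)).inv.hom c) := by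
  have h := Groth.Agent.AbVarLib.Rigidity.isPushout_appTop (X ↘ Spec (CommRingCat.of k)) (specMap k L)
  have h' : IsPushout (CommRingCat.ofHom (algebraMap k Γ(X, ⊤)))
      (CommRingCat.ofHom (algebraMap k L))
      (pullback.fst (X ↘ Spec (CommRingCat.of k)) (specMap k L)).appTop
      ((Scheme.ΓSpecIso (CommRingCat.of L)).inv ≫
        (pullback.snd (X ↘ Spec (CommRingCat.of k)) (specMap k L)).appTop) := by
    refine IsPushout.of_iso h (Scheme.ΓSpecIso (CommRingCat.of k)) (Iso.refl _)
      (Scheme.ΓSpecIso (CommRingCat.of L)) (Iso.refl _) ?_ ?_ ?_ ?_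
    · rw [Iso.refl_hom, Category.comp_id, ← Iso.inv_comp_eq]
      rfl
    · exact Scheme.ΓSpecIso_naturality (CommRingCat.ofHom (algebraMap k L))
    · simp
    · simp
  let i := (CommRingCat.isPushout_tensorProduct k Γ(X, ⊤) L).isoIsPushout _ _ h'
  refine ⟨i.commRingCatIsoToRingEquiv, fun c ↦ ?_⟩
  have hinr : CommRingCat.ofHom
      (Algebra.TensorProduct.includeRight (R := k) (A := Γ(X, ⊤)) (B := L)).toRingHom ≫ i.hom =
      (Scheme.ΓSpecIso (CommRingCat.of L)).inv ≫
        (pullback.snd (X ↘ Spec (CommRingCat.of k)) (specMap k L)).appTop :=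
    IsPushout.inr_isoIsPushout_hom _ _ _ _
  exact congrArg (fun q : CommRingCat.of L ⟶ _ ↦ q.hom c) hinr

variable [IsAlgClosed L]

lemma isUnit_or_isNilpotent_tensor [ConnectedSpace ↥(pullback (X ↘ Spec (CommRingCat.of k)) (specMap k L))]
    (z : Γ(X, ⊤) ⊗[k] L) : IsUnit z ∨ IsNilpotent z := by
  obtain ⟨e, he⟩ := nonempty_tensorEquiv k X L
  let s := pullback.snd (X ↘ Spec (CommRingCat.of k)) (specMap k L)
  let φ := s.appTop.hom.comp (Scheme.ΓSpecIso (CommRingCat.of L)).inv.hom
  let _ := φ.toAlgebra
  have : Algebra.IsIntegral L Γ(pullback (X ↘ Spec (CommRingCat.of k)) (specMap k L), ⊤) :=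
    algebraMap_isIntegral_iff.mp ((RingHom.isIntegral_of_surjective _
      (ConcreteCategory.bijective_of_isIso (Scheme.ΓSpecIso (CommRingCat.of L)).inv).2).trans _ _
      (isIntegral_appTop_of_universallyClosed s))
  rcases isUnit_or_isNilpotent (L := L) (fun a ha ↦ isIdempotentElem_eq ha) (e z) with h | h
  · exact Or.inl (by simpa using h.map e.symm)
  · exact Or.inr (by simpa using h.map e.symm)

variable [Nonempty X]

lemma nontrivial_top : Nontrivial Γ(X, ⊤) := by
  obtain ⟨x⟩ := ‹Nonempty X›
  exact (X.presheaf.germ ⊤ x trivial).hom.domain_nontrivial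

/-- If `X` is geometrically connected, `Γ(X)` is purely inseparable; in particular local. -/
lemma isPrime_nilradical_tensor [GeometricallyConnected (X ↘ Spec (CommRingCat.of k))] :
    (nilradical (Γ(X, ⊤) ⊗[k] L)).IsPrime := by
  have : ConnectedSpace ↥(pullback (X ↘ Spec (CommRingCat.of k)) (specMap k L)) :=
    pullback_of_geometrically GeometricallyConnected.geometrically_connectedSpace L _
  have := nontrivial_top X
  have : Nontrivial (Γ(X, ⊤) ⊗[k] L) :=
    (Algebra.TensorProduct.includeLeft_injective (R := k) (S := k) (A := Γ(X, ⊤)) (B := L)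
      (RingHom.injective _)).nontrivial
  exact isPrime_nilradical_of_unit_or_nilpotent (isUnit_or_isNilpotent_tensor k X L)

omit [IsAlgClosed L] [Nonempty X] in
lemma isReduced_tensor [GeometricallyReduced (X ↘ Spec (CommRingCat.of k))] :
    _root_.IsReduced (Γ(X, ⊤) ⊗[k] L) := by
  have : AlgebraicGeometry.IsReduced (pullback (X ↘ Spec (CommRingCat.of k)) (specMap k L)) :=
    pullback_of_geometrically GeometricallyReduced.geometrically_isReduced L _
  obtain ⟨e, -⟩ := nonempty_tensorEquiv k X L
  exact isReduced_of_injective e.toRingHom e.injective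

/-- Geometrically connected and reduced proper schemes have only constant functions. -/
theorem bijective_algebraMap [GeometricallyConnected (X ↘ Spec (CommRingCat.of k))]
    [GeometricallyReduced (X ↘ Spec (CommRingCat.of k))] :
    Function.Bijective (algebraMap k Γ(X, ⊤)) := by
  let L := AlgebraicClosure k
  have : ConnectedSpace ↥(pullback (X ↘ Spec (CommRingCat.of k)) (specMap k L)) :=
    pullback_of_geometrically GeometricallyConnected.geometrically_connectedSpace L _
  have := isReduced_tensor k X L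
  have := isPrime_nilradical_tensor k X L
  let T := L ⊗[k] Γ(X, ⊤)
  let c : Γ(X, ⊤) ⊗[k] L ≃ₐ[k] T := Algebra.TensorProduct.comm k Γ(X, ⊤) L
  have hf : IsField T := by
    have : Nontrivial (Γ(X, ⊤) ⊗[k] L) := ⟨⟨1, 0, fun h ↦ this.ne_top
      ((Ideal.eq_top_iff_one _).mpr (h ▸ zero_mem _))⟩⟩
    have : IsField (Γ(X, ⊤) ⊗[k] L) :=
      { exists_pair_ne := exists_pair_ne _
        mul_comm := _root_.mul_comm
        mul_inv_cancel := fun {z} hz ↦
          ((isUnit_or_isNilpotent_tensor k X L z).resolve_right fun h ↦ hz h.eq_zero).exists_right_inv }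
    exact c.symm.toMulEquiv.isField this
  let _ := hf.toField
  have hint : (X ↘ Spec (CommRingCat.of k)).appTop.hom.IsIntegral :=
    isIntegral_appTop_of_universallyClosed _
  have : Algebra.IsIntegral k Γ(X, ⊤) :=
    algebraMap_isIntegral_iff.mp ((RingHom.isIntegral_of_surjective _
      (ConcreteCategory.bijective_of_isIso (Scheme.ΓSpecIso (CommRingCat.of k)).inv).2).trans _ _ hint)
  have : Algebra.IsIntegral L T := inferInstance
  have hb : Function.Bijective (algebraMap L T) :=
    IsAlgClosed.algebraMap_bijective_of_isIntegral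
  have h1 : Module.finrank k Γ(X, ⊤) = 1 := by
    rw [← Module.finrank_baseChange (R := L), ← (LinearEquiv.ofBijective (Algebra.linearMap L T) hb).finrank_eq,
      Module.finrank_self]
  have := nontrivial_top X
  refine ⟨(algebraMap k Γ(X, ⊤)).injective, fun s ↦ ?_⟩
  have := Subalgebra.bot_eq_top_of_finrank_eq_one h1
  exact Algebra.mem_bot.mp (this ▸ Algebra.mem_top (x := s))

/-- Geometrically reduced: a field of global functions is separable. -/
theorem isSeparable_of_geometricallyReduced {F : Type u} [Field F] [Algebra k F]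
    [FiniteDimensional k F] (φ : F →ₐ[k] Γ(X, ⊤))
    [GeometricallyReduced (X ↘ Spec (CommRingCat.of k))] : Algebra.IsSeparable k F := by
  have := isReduced_tensor k X (AlgebraicClosure k)
  have hred : _root_.IsReduced (AlgebraicClosure k ⊗[k] Γ(X, ⊤)) :=
    isReduced_of_injective (Algebra.TensorProduct.comm k (AlgebraicClosure k) Γ(X, ⊤)).toRingHom
      (Algebra.TensorProduct.comm k (AlgebraicClosure k) Γ(X, ⊤)).injective
  have : Algebra.IsGeometricallyReduced k Γ(X, ⊤) :=
    (Algebra.isGeometricallyReduced_field_iff k _).mpr hred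
  have := nontrivial_top X
  have : Algebra.IsGeometricallyReduced k F :=
    Algebra.IsGeometricallyReduced.of_injective φ φ.injective
  obtain ⟨s, hs, hsep⟩ := Groth.Agent.CAlg48.SepGen.exists_separating k F
  have hempty : IsEmpty (s : Set F) := ⟨fun x ↦
    (hs.1.transcendental x) (Algebra.IsAlgebraic.isAlgebraic (R := k) (x : F))⟩
  have hbot : IntermediateField.adjoin k (s : Set F) = ⊥ := by
    rw [Set.isEmpty_coe_sort.mp hempty, IntermediateField.adjoin_empty]
  rw [hbot] at hsep
  exact Algebra.IsSeparable.of_equiv_equiv (IntermediateField.botEquiv k F).toRingEquiv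
    (RingEquiv.refl F) (RingHom.ext fun x ↦ by
      obtain ⟨c, hc⟩ := IntermediateField.mem_bot.mp x.2
      obtain rfl : algebraMap k (⊥ : IntermediateField k F) c = x := Subtype.ext hc
      simp)

end Groth.Agent.VarBC.H0
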