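import Groth.Agent.VarBC.Galois

/-!
Irreducible components of `X ⊗ K` and their images in `X`.
-/

set_option autoImplicit false
universe u

open CategoryTheory Limits AlgebraicGeometry
open Groth.Agent.FBase.BC Groth.Agent.FBase.BC2 Groth.Agent.FBase.Topo
open Groth.Agent.FBase.ConnComp Groth.Agent.FBase.IrredComp

namespace Groth.Agent.VarBC

/-- A component upstairs of a geometrically irreducible open surjection is the preimage of its
image. -/
lemma component_eq_preimage {Y Z : Scheme.{u}} (q : Y ⟶ Z) [GeometricallyIrreducible q]
    (ho : IsOpenMap q) (hs : Function.Surjective q) {S : Set Y}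
    (hS : S ∈ irreducibleComponents Y) :
    S = q ⁻¹' closure (q '' S) ∧ IsClosed (q '' S) := by
  have h1 : IsIrreducible (closure (q '' S)) := (hS.1.image q q.continuous.continuousOn).closure
  have h2 := h1.preimage_of_isPreirreducible_fiber q ho (isPreirreducible_preimage_singleton q)
    (by rw [hs.range_eq, Set.inter_univ]; exact h1.nonempty)
  have h3 : S ⊆ q ⁻¹' closure (q '' S) := fun z hz ↦ subset_closure (Set.mem_image_of_mem q hz)
  have h4 := subset_antisymm h3 (hS.2 h2 h3)
  refine ⟨h4, ?_⟩
  rw [h4, Set.image_preimage_eq _ hs]
  exact isClosed_closure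

variable {k : Type u} [Field k] {X : Scheme.{u}} (f : X ⟶ Spec (CommRingCat.of k))
  {K : Type u} [Field K] [Algebra k K]

/-- The image of a component is the closure of the image of its generic point, a component. -/
lemma image_component {T : Set ↥(pullback f (specMap k K))}
    (hT : T ∈ irreducibleComponents ↥(pullback f (specMap k K))) {w : ↥(pullback f (specMap k K))}
    (hw : IsGenericPoint w T) :
    pullback.fst f (specMap k K) '' T = closure {pullback.fst f (specMap k K) w} ∧
      closure {pullback.fst f (specMap k K) w} ∈ irreducibleComponents X := by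
  let p := pullback.fst f (specMap k K)
  refine ⟨subset_antisymm ?_ ?_, closure_singleton_mem_irreducibleComponents fun z hz ↦
    generization_maximal_map p (fun v ↦ specializes_of_isGenericPoint_component hT hw) hz⟩
  · rintro _ ⟨z, hz, rfl⟩
    exact ((hw.specializes hz).map p.continuous).mem_closure
  let L := AlgebraicClosure k
  let M := AlgebraicClosure K
  let i : L →ₐ[k] M := IsAlgClosed.lift
  algebraize [i.toRingHom]
  have : IsScalarTower k L M := IsScalarTower.of_algHom i
  let q := bcMap f (K := L) (L := M)
  let r := bcMap f (K := K) (L := M)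
  let pL := pullback.fst f (specMap k L)
  have := geometricallyIrreducible_bcMap f (K := L) (L := M)
  have := universallyOpen_bcMap f (K := L) (L := M)
  obtain ⟨v, hv⟩ := (surjective_bcMap f (K := K) (L := M)).surj w
  have hS : irreducibleComponent v ∈ irreducibleComponents ↥(pullback f (specMap k M)) :=
    irreducibleComponent_mem_irreducibleComponents v
  obtain ⟨v', hv'⟩ : ∃ v', IsGenericPoint v' (irreducibleComponent v) :=
    QuasiSober.sober hS.1 isClosed_irreducibleComponent
  have hvw : r v' = w := by
    have h := (hv'.specializes mem_irreducibleComponent).map r.continuous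
    rw [hv] at h
    exact (h.antisymm (specializes_of_isGenericPoint_component hT hw h)).eq
  have hcl : IsClosed (pL '' (q '' irreducibleComponent v)) :=
    pL.isClosedMap _ (component_eq_preimage q q.isOpenMap
      (surjective_bcMap f (K := L) (L := M)).surj hS).2
  have hsub : pL '' (q '' irreducibleComponent v) ⊆ p '' T := by
    rintro _ ⟨_, ⟨z, hz, rfl⟩, rfl⟩
    refine ⟨r z, ?_, ?_⟩
    · rw [← hw.def, ← hvw]
      exact ((hv'.specializes hz).map r.continuous).mem_closure
    · simp only [p, r, pL, q, ← Scheme.Hom.comp_apply, bcMap_fst]
  have hmem : p w ∈ pL '' (q '' irreducibleComponent v) := by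
    refine ⟨q v', Set.mem_image_of_mem q hv'.mem, ?_⟩
    rw [← hvw]
    simp only [p, r, pL, q, ← Scheme.Hom.comp_apply, bcMap_fst]
  exact (closure_minimal (Set.singleton_subset_iff.mpr hmem) hcl).trans hsub

/-- Over the generic point of a component, every maximal generalization is a component upstairs. -/
lemma exists_component_over {η : X} {Z : Set X} (hZ : Z ∈ irreducibleComponents X)
    (hη : IsGenericPoint η Z) :
    ∃ (T : Set ↥(pullback f (specMap k K))) (w : ↥(pullback f (specMap k K))),
      T ∈ irreducibleComponents ↥(pullback f (specMap k K)) ∧ IsGenericPoint w T ∧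
        pullback.fst f (specMap k K) w = η := by
  obtain ⟨v, hv⟩ := (surjective_pullback_fst (K := K) f).surj η
  obtain ⟨w, hw⟩ : ∃ w, IsGenericPoint w (irreducibleComponent v) :=
    QuasiSober.sober (irreducibleComponent_mem_irreducibleComponents v).1
      isClosed_irreducibleComponent
  refine ⟨_, w, irreducibleComponent_mem_irreducibleComponents v, hw, ?_⟩
  have h := (hw.specializes mem_irreducibleComponent).map (pullback.fst f (specMap k K)).continuous
  rw [hv] at h
  exact (h.antisymm (specializes_of_isGenericPoint_component hZ hη h)).eq

/-- Every point over a component lies on a component contained in the preimage. -/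
lemma exists_component_subset {Z : Set X} (hZ : Z ∈ irreducibleComponents X)
    {y : ↥(pullback f (specMap k K))} (hy : pullback.fst f (specMap k K) y ∈ Z) :
    ∃ T ∈ irreducibleComponents ↥(pullback f (specMap k K)),
      y ∈ T ∧ T ⊆ pullback.fst f (specMap k K) ⁻¹' Z := by
  let p := pullback.fst f (specMap k K)
  obtain ⟨η, hη⟩ : ∃ η, IsGenericPoint η Z :=
    QuasiSober.sober hZ.1 (isClosed_of_mem_irreducibleComponents Z hZ)
  obtain ⟨v, hv, hvη⟩ := Flat.generalizingMap p (hη.specializes hy)
  obtain ⟨w, hw⟩ : ∃ w, IsGenericPoint w (irreducibleComponent v) :=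
    QuasiSober.sober (irreducibleComponent_mem_irreducibleComponents v).1
      isClosed_irreducibleComponent
  have hwv := hw.specializes mem_irreducibleComponent
  have h := hwv.map p.continuous
  rw [hvη] at h
  have he : p w = η := (h.antisymm (specializes_of_isGenericPoint_component hZ hη h)).eq
  refine ⟨_, irreducibleComponent_mem_irreducibleComponents v,
    (hwv.trans hv).mem_closed isClosed_irreducibleComponent hw.mem, fun z hz ↦ ?_⟩
  have h2 := (hw.specializes hz).map p.continuous
  rw [he] at h2
  exact h2.mem_closed (isClosed_of_mem_irreducibleComponents Z hZ) hη.mem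

end Groth.Agent.VarBC
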