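import Groth.Agent.VarBC.TowerTop
import Groth.Agent.VarBC.Irred
import Mathlib.AlgebraicGeometry.Morphisms.QuasiFinite
import Mathlib.FieldTheory.IntermediateField.Adjoin.Algebra

/-!
Connected components of `X ⊗ K` and their images in `X`.
-/

set_option autoImplicit false
universe u

open CategoryTheory Limits AlgebraicGeometry TensorProduct
open Groth.Agent.FBase.BC Groth.Agent.FBase.BC2 Groth.Agent.FBase.PointScheme
open Groth.Agent.FBase.Components Groth.Agent.FBase.Topo Groth.Agent.FBase.ConnComp

namespace Groth.Agent.VarBC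

lemma restrict_maps {α β : Type*} [TopologicalSpace α] [TopologicalSpace β] {g : α → β}
    {S : Set β} {T : Set α} (hST : T = g ⁻¹' S) (hc : Continuous g) (ho : IsOpenMap g)
    (hcl : IsClosedMap g) (hs : Function.Surjective g) :
    let r : T → S := fun a ↦ ⟨g a.1, hST.le a.2⟩
    Continuous r ∧ IsOpenMap r ∧ IsClosedMap r ∧ Function.Surjective r := by
  subst hST
  exact ⟨hc.restrictPreimage, ho.restrictPreimage S, hcl.restrictPreimage S,
    S.restrictPreimage_surjective hs⟩

variable {k : Type u} [Field k] {X : Scheme.{u}} (f : X ⟶ Spec (CommRingCat.of k))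
  {K : Type u} [Field K] [Algebra k K]

/-- Finite intermediate fields. -/
abbrev Stage (k K : Type u) [Field k] [Field K] [Algebra k K] : Type u :=
  {E : IntermediateField k K // FiniteDimensional k E}

instance : Nonempty (Stage k K) := ⟨⟨⊥, inferInstance⟩⟩

lemma bcMap_factor {E F : IntermediateField k K} (hEF : E ≤ F)
    {a b : ↥(pullback f (specMap k K))}
    (h : bcMap f (K := F) (L := K) a = bcMap f (K := F) (L := K) b) :
    bcMap f (K := E) (L := K) a = bcMap f (K := E) (L := K) b := by
  algebraize [(IntermediateField.inclusion hEF).toRingHom]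
  have : IsScalarTower k E F := IsScalarTower.of_algHom (IntermediateField.inclusion hEF)
  have hS : IsScalarTower E F K := IsScalarTower.of_algebraMap_eq' rfl
  have e : bcMap f (K := F) (L := K) ≫ bcMap f (K := E) (L := F) = bcMap f (K := E) (L := K) := by
    refine pullback.hom_ext ?_ ?_
    · rw [Category.assoc, bcMap_fst, bcMap_fst, bcMap_fst]
    · rw [Category.assoc, bcMap_snd, reassoc_of% bcMap_snd f (K := F) (L := K), bcMap_snd,
        specMap_comp (k := E) (K := F) (L := K)]
  rw [← e, Scheme.Hom.comp_apply, Scheme.Hom.comp_apply, h]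

lemma exists_stage_tensor [Algebra.IsAlgebraic k K] {A : Type u} [CommRing A] [Algebra k A]
    (z : A ⊗[k] K) :
    ∃ E : Stage k K, ∀ F : IntermediateField k K, E.1 ≤ F →
      z ∈ Set.range (Algebra.TensorProduct.map (AlgHom.id k A) F.val) := by
  induction z using TensorProduct.induction_on with
  | zero => exact ⟨Classical.arbitrary _, fun F _ ↦ ⟨0, map_zero _⟩⟩
  | tmul a b =>
    exact ⟨⟨IntermediateField.adjoin k {b},
      IntermediateField.adjoin.finiteDimensional (Algebra.IsIntegral.isIntegral b)⟩, fun F hF ↦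
      ⟨a ⊗ₜ (⟨b, hF (IntermediateField.mem_adjoin_simple_self k b)⟩ : F), by simp⟩⟩
  | add x y hx hy =>
    obtain ⟨E₁, h₁⟩ := hx
    obtain ⟨E₂, h₂⟩ := hy
    have := E₁.2
    have := E₂.2
    refine ⟨⟨E₁.1 ⊔ E₂.1, inferInstance⟩, fun F hF ↦ ?_⟩
    obtain ⟨x', hx'⟩ := h₁ F (le_sup_left.trans hF)
    obtain ⟨y', hy'⟩ := h₂ F (le_sup_right.trans hF)
    exact ⟨x' + y', by rw [map_add, hx', hy']⟩

/-- Disjoint closed subsets of `X ⊗ K` are separated at a finite level over an affine open. -/
lemma exists_separated [Algebra.IsAlgebraic k K] (S T : Set ↥(pullback f (specMap k K)))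
    (hS : IsClosed S) (hT : IsClosed T) (hd : Disjoint S T) (x : X) :
    ∃ W : Set X, IsOpen W ∧ x ∈ W ∧ ∃ E : Stage k K,
      ∀ a ∈ S, pullback.fst f (specMap k K) a ∈ W →
        ∀ b ∈ T, bcMap f (K := E.1) (L := K) a ≠ bcMap f (K := E.1) (L := K) b := by
  obtain ⟨A, _, _, j, p, _, rfl, hj⟩ := exists_chart f x
  let c := bcChart f j K hj
  obtain ⟨I, hI⟩ := (PrimeSpectrum.isClosed_iff_zeroLocus_ideal _).mp (hS.preimage c.continuous)
  obtain ⟨J, hJ⟩ := (PrimeSpectrum.isClosed_iff_zeroLocus_ideal _).mp (hT.preimage c.continuous)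
  have htop : I ⊔ J = ⊤ := by
    rw [← PrimeSpectrum.zeroLocus_empty_iff_eq_top, PrimeSpectrum.zeroLocus_sup]
    refine Set.eq_empty_of_forall_notMem fun P hP ↦ ?_
    exact Set.disjoint_left.mp hd (hI.ge hP.1) (hJ.ge hP.2)
  obtain ⟨a₀, ha₀, b₀, hb₀, hab⟩ := Submodule.mem_sup.mp ((Ideal.eq_top_iff_one _).mp htop)
  obtain ⟨E, hE⟩ := exists_stage_tensor a₀
  refine ⟨Set.range j, j.isOpenEmbedding.isOpen_range, ⟨p, rfl⟩, E, fun a ha haW b hb he ↦ ?_⟩
  have hbW : pullback.fst f (specMap k K) b ∈ Set.range j := by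
    rw [← bcMap_fst f (K := E.1) (L := K), Scheme.Hom.comp_apply, ← he, ← Scheme.Hom.comp_apply,
      bcMap_fst]
    exact haW
  obtain ⟨P, rfl⟩ : a ∈ Set.range c := (range_bcChart f j K hj).ge haW
  obtain ⟨Q, rfl⟩ : b ∈ Set.range c := (range_bcChart f j K hj).ge hbW
  have hfm : c ≫ bcMap f (K := E.1) (L := K) =
      Spec.map (CommRingCat.ofHom (Algebra.TensorProduct.map (AlgHom.id k A)
        E.1.val).toRingHom) ≫ bcChart f j E.1 hj := by
    refine pullback.hom_ext ?_ ?_
    · rw [Category.assoc, Category.assoc, bcMap_fst]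
      erw [bcChart_fst, bcChart_fst]
      rw [← Category.assoc, ← Spec.map_comp, ← CommRingCat.ofHom_comp]
      congr 3
    · rw [Category.assoc, Category.assoc, bcMap_snd]
      erw [bcChart_snd, reassoc_of% bcChart_snd f K j hj]
      simp only [specMap, ← Spec.map_comp, ← CommRingCat.ofHom_comp]
      congr 2
  rw [← Scheme.Hom.comp_apply, ← Scheme.Hom.comp_apply, hfm, Scheme.Hom.comp_apply,
    Scheme.Hom.comp_apply] at he
  have hPQ := congrArg PrimeSpectrum.asIdeal ((bcChart f j E.1 hj).isOpenEmbedding.injective he)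
  change P.asIdeal.comap (Algebra.TensorProduct.map (AlgHom.id k A) E.1.val) =
    Q.asIdeal.comap (Algebra.TensorProduct.map (AlgHom.id k A) E.1.val) at hPQ
  obtain ⟨z, hz⟩ := hE E.1 le_rfl
  have haP : a₀ ∈ P.asIdeal := hI.le ha ha₀
  have hbQ : b₀ ∈ Q.asIdeal := hJ.le hb hb₀
  have haQ : a₀ ∈ Q.asIdeal := by
    rw [← hz] at haP ⊢
    exact Ideal.mem_comap.mp (hPQ.le (Ideal.mem_comap.mpr haP))
  exact Q.isPrime.ne_top ((Ideal.eq_top_iff_one _).mpr (hab ▸ Q.asIdeal.add_mem haQ hbQ))

variable [Algebra.IsAlgebraic k K]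

omit [Algebra.IsAlgebraic k K] in
lemma mem_preimage_stage {C : Set X} {a : ↥(pullback f (specMap k K))}
    (ha : a ∈ pullback.fst f (specMap k K) ⁻¹' C) (E : IntermediateField k K) :
    bcMap f (K := E) (L := K) a ∈ pullback.fst f (specMap k E) ⁻¹' C := by
  rw [Set.mem_preimage, ← Scheme.Hom.comp_apply, bcMap_fst]
  exact ha

/-- The finite stages form a tower over every closed connected subset. -/
lemma isTower (C : Set X) (hC : IsClosed C) :
    TowerTop.IsTower (X := C) (Y := ↥(pullback.fst f (specMap k K) ⁻¹' C))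
      (Z := fun E : Stage k K ↦ ↥(pullback.fst f (specMap k E.1) ⁻¹' C))
      (fun a ↦ ⟨pullback.fst f (specMap k K) a.1, a.2⟩)
      (fun E a ↦ ⟨bcMap f (K := E.1) (L := K) a.1, mem_preimage_stage f a.2 E.1⟩)
      (fun E a ↦ ⟨pullback.fst f (specMap k E.1) a.1, a.2⟩) := by
  have hpre : ∀ E : IntermediateField k K, pullback.fst f (specMap k K) ⁻¹' C =
      bcMap f (K := E) (L := K) ⁻¹' (pullback.fst f (specMap k E) ⁻¹' C) := fun E ↦ by
    ext a
    simp only [Set.mem_preimage, ← Scheme.Hom.comp_apply, bcMap_fst]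
  have hq := fun E : Stage k K ↦
    haveI := universallyOpen_bcMap f (K := E.1) (L := K)
    haveI : Algebra.IsAlgebraic E.1 K := Algebra.IsAlgebraic.tower_top (K := k) E.1
    haveI := isIntegralHom_bcMap f (K := E.1) (L := K)
    restrict_maps (hpre E.1) (bcMap f (K := E.1) (L := K)).continuous
      (bcMap f (K := E.1) (L := K)).isOpenMap (bcMap f (K := E.1) (L := K)).isClosedMap
      (surjective_bcMap f (K := E.1) (L := K)).surj
  have hp := fun E : Stage k K ↦
    haveI := E.2
    haveI := surjective_pullback_fst (K := E.1) f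
    restrict_maps (g := pullback.fst f (specMap k E.1)) (S := C) rfl
      (pullback.fst f (specMap k E.1)).continuous (pullback.fst f (specMap k E.1)).isOpenMap
      (pullback.fst f (specMap k E.1)).isClosedMap (pullback.fst f (specMap k E.1)).surjective
  refine
    { continuous_π := (pullback.fst f (specMap k K)).continuous.restrictPreimage
      continuous_q := fun E ↦ (hq E).1
      isOpenMap_q := fun E ↦ (hq E).2.1
      isClosedMap_q := fun E ↦ (hq E).2.2.1
      surjective_q := fun E ↦ (hq E).2.2.2
      isCompact_fibre_q := fun E z ↦ ?_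
      continuous_p := fun E ↦ (hp E).1
      isOpenMap_p := fun E ↦ (hp E).2.1
      isClosedMap_p := fun E ↦ (hp E).2.2.1
      surjective_p := fun E ↦ (hp E).2.2.2
      finite_fibre_p := fun E x ↦ ?_
      fac := fun E a ↦ Subtype.ext ?_
      directed := fun E F ↦ ?_
      separated := fun S T hS hT hd x ↦ ?_ }
  · have : Algebra.IsAlgebraic E.1 K := Algebra.IsAlgebraic.tower_top (K := k) E.1
    have := isIntegralHom_bcMap f (K := E.1) (L := K)
    rw [Topology.IsInducing.subtypeVal.isCompact_iff]
    convert! (bcMap f (K := E.1) (L := K)).isCompact_preimage_singleton z.1 using 1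
    ext a
    simp only [Set.mem_image, Set.mem_preimage, Set.mem_singleton_iff, Subtype.exists,
      exists_and_right, exists_eq_right]
    refine ⟨fun ⟨_, h⟩ ↦ congrArg Subtype.val h, fun h ↦ ⟨(hpre E.1).ge ?_, Subtype.ext h⟩⟩
    rw [Set.mem_preimage (f := bcMap f (K := E.1) (L := K)), h]
    exact z.2
  · have := E.2
    have : IsFinite (specMap k E.1) := by
      rw [IsFinite.SpecMap_iff]
      exact RingHom.finite_algebraMap.mpr E.2
    exact Set.Finite.of_injOn (f := Subtype.val) (fun a ha ↦ Set.mem_preimage.mpr (Set.mem_singleton_iff.mpr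
      (congrArg Subtype.val (Set.mem_singleton_iff.mp ha))))
      Subtype.val_injective.injOn ((pullback.fst f (specMap k E.1)).finite_preimage_singleton x.1)
  · exact (Scheme.Hom.comp_apply _ _ _).symm.trans (by rw [bcMap_fst])
  · have := E.2
    have := F.2
    exact ⟨⟨E.1 ⊔ F.1, inferInstance⟩,
      fun a b h ↦ Subtype.ext (bcMap_factor f le_sup_left (congrArg Subtype.val h)),
      fun a b h ↦ Subtype.ext (bcMap_factor f le_sup_right (congrArg Subtype.val h))⟩
  · have hcl : IsClosed (pullback.fst f (specMap k K) ⁻¹' C) :=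
      hC.preimage (pullback.fst f (specMap k K)).continuous
    obtain ⟨W, hW, hxW, E, hE⟩ := exists_separated f _ _
      (hcl.isClosedEmbedding_subtypeVal.isClosedMap S hS)
      (hcl.isClosedEmbedding_subtypeVal.isClosedMap T hT)
      ((Set.disjoint_image_iff Subtype.val_injective).mpr hd) x.1
    exact ⟨Subtype.val ⁻¹' W, hW.preimage continuous_subtype_val, hxW, E,
      fun a ha haW b hb h ↦ hE a.1 (Set.mem_image_of_mem _ ha) haW b.1
        (Set.mem_image_of_mem _ hb) (congrArg Subtype.val h)⟩

lemma image_connectedComponent_algebraic (a : ↥(pullback f (specMap k K))) :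
    pullback.fst f (specMap k K) '' connectedComponent a =
      connectedComponent (pullback.fst f (specMap k K) a) := by
  let p := pullback.fst f (specMap k K)
  refine subset_antisymm (p.continuous.image_connectedComponent_subset a) fun x hx ↦ ?_
  let C := connectedComponent (p a)
  have : ConnectedSpace C := isConnected_iff_connectedSpace.mp isConnected_connectedComponent
  let a' : ↥(p ⁻¹' C) := ⟨a, mem_connectedComponent⟩
  obtain ⟨b, hb, hbx⟩ :=
    (TowerTop.image_connectedComponent (isTower f C isClosed_connectedComponent) a').ge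
      (Set.mem_univ (⟨x, hx⟩ : C))
  exact ⟨b.1, continuous_subtype_val.image_connectedComponent_subset a'
    (Set.mem_image_of_mem _ hb), congrArg Subtype.val hbx⟩

/-- If all finite stages are connected, so is `X ⊗ K`. -/
lemma connectedSpace_of_stages [ConnectedSpace X]
    (h : ∀ E : Stage k K, ConnectedSpace ↥(pullback f (specMap k E.1))) :
    ConnectedSpace ↥(pullback f (specMap k K)) := by
  have : ConnectedSpace (Set.univ : Set X) :=
    isConnected_iff_connectedSpace.mp isConnected_univ
  have : ∀ E : Stage k K,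
      PreconnectedSpace ↥(pullback.fst f (specMap k E.1) ⁻¹' (Set.univ : Set X)) := fun E ↦
    isPreconnected_iff_preconnectedSpace.mp (by simpa using (h E).toPreconnectedSpace.isPreconnected_univ)
  have hpc := TowerTop.preconnectedSpace (isTower f (K := K) Set.univ isClosed_univ)
  have := surjective_pullback_fst (K := K) f
  obtain ⟨x⟩ : Nonempty X := inferInstance
  obtain ⟨a, -⟩ := (pullback.fst f (specMap k K)).surjective x
  refine connectedSpace_iff_univ.mpr ⟨⟨a, trivial⟩, ?_⟩
  rw [← Set.preimage_univ (f := pullback.fst f (specMap k K)),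
    isPreconnected_iff_preconnectedSpace]
  exact hpc

end Groth.Agent.VarBC

namespace Groth.Agent.VarBC

variable {k : Type u} [Field k] {X : Scheme.{u}} (f : X ⟶ Spec (CommRingCat.of k))
  {K : Type u} [Field K] [Algebra k K]

/-- Connected components of `X ⊗ K` map onto connected components of `X`. -/
theorem image_connectedComponent (a : ↥(pullback f (specMap k K))) :
    pullback.fst f (specMap k K) '' connectedComponent a =
      connectedComponent (pullback.fst f (specMap k K) a) := by
  let p := pullback.fst f (specMap k K)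
  refine subset_antisymm (p.continuous.image_connectedComponent_subset a) ?_
  let L := SeparableClosure k
  let M := AlgebraicClosure K
  let i : L →ₐ[k] M := IsSepClosed.lift
  algebraize [i.toRingHom]
  have : IsScalarTower k L M := IsScalarTower.of_algHom i
  let q := bcMap f (K := L) (L := M)
  let r := bcMap f (K := K) (L := M)
  let pL := pullback.fst f (specMap k L)
  have := geometricallyConnected_bcMap f (K := L) (L := M)
  have := universallyOpen_bcMap f (K := L) (L := M)
  have hqs := (surjective_bcMap f (K := L) (L := M)).surj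
  obtain ⟨v, hv⟩ := (surjective_bcMap f (K := K) (L := M)).surj a
  have hpr : ∀ z, p (r z) = pL (q z) := fun z ↦ by
    simp only [p, r, pL, q, ← Scheme.Hom.comp_apply, bcMap_fst]
  have hD : connectedComponent (q v) ⊆ q '' connectedComponent v := by
    have hpre : _root_.IsConnected (q ⁻¹' connectedComponent (q v)) :=
      isConnected_preimage q q.isOpenMap isConnected_connectedComponent
    rintro z hz
    obtain ⟨w, rfl⟩ := hqs z
    exact ⟨w, hpre.isPreconnected.subset_connectedComponent
      (x := v) mem_connectedComponent hz, rfl⟩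
  rintro x hx
  rw [← hv, hpr, ← image_connectedComponent_algebraic f (q v)] at hx
  obtain ⟨z, hz, rfl⟩ := hx
  obtain ⟨w, hw, rfl⟩ := hD hz
  refine ⟨r w, ?_, hpr w⟩
  rw [← hv]
  exact r.continuous.image_connectedComponent_subset v (Set.mem_image_of_mem r hw)

/-- Base change of a connected scheme with a connected subscheme surjecting onto it. -/
theorem connectedSpace_bc_of_hom [ConnectedSpace X] {T : Scheme.{u}}
    (g : T ⟶ Spec (CommRingCat.of k)) (h : T ⟶ X) (w : h ≫ f = g)
    [ConnectedSpace ↥(pullback g (specMap k K))] : ConnectedSpace ↥(pullback f (specMap k K)) := by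
  let φ := pullback.map g (specMap k K) f (specMap k K) h (𝟙 _) (𝟙 _) (by simp [w]) (by simp)
  obtain ⟨t₀⟩ : Nonempty ↥(pullback g (specMap k K)) := inferInstance
  let x₀ := h (pullback.fst g (specMap k K) t₀)
  refine connectedSpace_iff_univ.mpr ⟨⟨φ t₀, trivial⟩, isPreconnected_of_forall (φ t₀) fun a _ ↦ ?_⟩
  obtain ⟨b, hb, hbx⟩ := (image_connectedComponent f a).ge
    ((PreconnectedSpace.connectedComponent_eq_univ (pullback.fst f (specMap k K) a)).symm ▸
      Set.mem_univ x₀)
  obtain ⟨t, rfl⟩ := preimage_range_subset_range_map f g h w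
    (show b ∈ pullback.fst f (specMap k K) ⁻¹' Set.range h from ⟨_, hbx.symm⟩)
  exact ⟨connectedComponent a ∪ Set.range φ, Set.subset_univ _, Or.inr ⟨t₀, rfl⟩,
    Or.inl mem_connectedComponent,
    IsPreconnected.union (φ t) hb ⟨t, rfl⟩ isPreconnected_connectedComponent
      (isPreconnected_range φ.continuous)⟩

end Groth.Agent.VarBC
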