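import Groth.Agent.VarBC.Basic
import Groth.Prelude.Def_Curv2
import Mathlib.FieldTheory.Normal.Basic

/-!
The action of `Aut(K/k)` on `X ⊗ K` and the fibres of `X ⊗ K → X`.
-/

set_option autoImplicit false
universe u

open CategoryTheory Limits AlgebraicGeometry TensorProduct
open Groth.Agent.FBase.BC Groth.Agent.FBase.BC2 Groth.Agent.FBase.PointScheme
open Groth.Agent.FBase.SepClosed Groth.Agent.FBase.Components

namespace Groth.Agent.VarBC

variable {k : Type u} [Field k] {X : Scheme.{u}} [X.Over (Spec (CommRingCat.of k))]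
  {K : Type u} [Field K] [Algebra k K]

lemma galAct_fst (σ : K ≃ₐ[k] K) :
    Curv2.galAct k X K σ ≫ pullback.fst (X ↘ Spec (CommRingCat.of k)) (specMap k K) = pullback.fst (X ↘ Spec (CommRingCat.of k)) (specMap k K) := by
  unfold Curv2.galAct pullback.map
  erw [pullback.lift_fst]
  rw [Category.comp_id]

lemma galAct_snd (σ : K ≃ₐ[k] K) :
    Curv2.galAct k X K σ ≫ pullback.snd (X ↘ Spec (CommRingCat.of k)) (specMap k K) =
      pullback.snd (X ↘ Spec (CommRingCat.of k)) (specMap k K) ≫ Spec.map (CommRingCat.ofHom (σ : K →ₐ[k] K).toRingHom) := by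
  unfold Curv2.galAct pullback.map
  erw [pullback.lift_snd]

lemma galAct_fst_apply (σ : K ≃ₐ[k] K) (z : ↥(pullback (X ↘ Spec (CommRingCat.of k)) (specMap k K))) :
    pullback.fst (X ↘ Spec (CommRingCat.of k)) (specMap k K) (Curv2.galAct k X K σ z) = pullback.fst (X ↘ Spec (CommRingCat.of k)) (specMap k K) z :=
  (Scheme.Hom.comp_apply _ _ _).symm.trans (by rw [galAct_fst])

lemma galAct_symm (σ : K ≃ₐ[k] K) :
    Curv2.galAct k X K σ ≫ Curv2.galAct k X K σ.symm = 𝟙 _ := by
  refine pullback.hom_ext ?_ ?_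
  · rw [Category.assoc]
    erw [galAct_fst, galAct_fst]
    rw [Category.id_comp]
  · rw [Category.assoc]
    erw [galAct_snd, reassoc_of% galAct_snd]
    rw [← Spec.map_comp, ← CommRingCat.ofHom_comp,
      show (σ : K →ₐ[k] K).toRingHom.comp (σ.symm : K →ₐ[k] K).toRingHom = RingHom.id K from
        RingHom.ext fun x ↦ σ.apply_symm_apply x]
    simp

lemma galAct_symm_apply (σ : K ≃ₐ[k] K) (z : ↥(pullback (X ↘ Spec (CommRingCat.of k)) (specMap k K))) :
    Curv2.galAct k X K σ.symm (Curv2.galAct k X K σ z) = z :=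
  (Scheme.Hom.comp_apply _ _ _).symm.trans (by rw [galAct_symm]; rfl)

lemma galAct_apply_symm (σ : K ≃ₐ[k] K) (z : ↥(pullback (X ↘ Spec (CommRingCat.of k)) (specMap k K))) :
    Curv2.galAct k X K σ (Curv2.galAct k X K σ.symm z) = z := by
  simpa using galAct_symm_apply σ.symm z

/-- The action as a homeomorphism. -/
noncomputable def galHomeo (σ : K ≃ₐ[k] K) :
    ↥(pullback (X ↘ Spec (CommRingCat.of k)) (specMap k K)) ≃ₜ ↥(pullback (X ↘ Spec (CommRingCat.of k)) (specMap k K)) where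
  toFun := Curv2.galAct k X K σ
  invFun := Curv2.galAct k X K σ.symm
  left_inv := galAct_symm_apply σ
  right_inv := galAct_apply_symm σ
  continuous_toFun := (Curv2.galAct k X K σ).continuous
  continuous_invFun := (Curv2.galAct k X K σ.symm).continuous

lemma galAct_image_preimage (σ : K ≃ₐ[k] K) (T : Set X) :
    (Curv2.galAct k X K σ).base '' (pullback.fst (X ↘ Spec (CommRingCat.of k)) (specMap k K) ⁻¹' T) =
      pullback.fst (X ↘ Spec (CommRingCat.of k)) (specMap k K) ⁻¹' T := by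
  refine subset_antisymm ?_ fun z hz ↦ ⟨Curv2.galAct k X K σ.symm z, ?_, galAct_apply_symm σ z⟩
  · rintro _ ⟨z, hz, rfl⟩
    exact Set.mem_preimage.mpr ((galAct_fst_apply σ z).symm ▸ Set.mem_preimage.mp hz)
  · exact Set.mem_preimage.mpr ((galAct_fst_apply σ.symm z).symm ▸ Set.mem_preimage.mp hz)

lemma galAct_bcMap {L : Type u} [Field L] [Algebra k L] [Algebra K L] [IsScalarTower k K L]
    (σ : K ≃ₐ[k] K) (τ : L ≃ₐ[k] L) (h : ∀ x, τ (algebraMap K L x) = algebraMap K L (σ x)) :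
    Curv2.galAct k X L τ ≫ bcMap (X ↘ Spec (CommRingCat.of k)) (K := K) (L := L) =
      bcMap (X ↘ Spec (CommRingCat.of k)) (K := K) (L := L) ≫ Curv2.galAct k X K σ := by
  refine pullback.hom_ext ?_ ?_
  · refine (Category.assoc _ _ _).trans (((congrArg (_ ≫ ·) (bcMap_fst _)).trans
      (galAct_fst τ)).trans ?_)
    exact ((Category.assoc _ _ _).trans ((congrArg (_ ≫ ·) (galAct_fst σ)).trans (bcMap_fst _))).symm
  · have h1 : Spec.map (CommRingCat.ofHom (τ : L →ₐ[k] L).toRingHom) ≫ specMap K L =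
        specMap K L ≫ Spec.map (CommRingCat.ofHom (σ : K →ₐ[k] K).toRingHom) := by
      simp only [specMap, ← Spec.map_comp, ← CommRingCat.ofHom_comp]
      congr 2
      exact RingHom.ext fun x ↦ h x
    refine (Category.assoc _ _ _).trans ((congrArg (_ ≫ ·) (bcMap_snd _)).trans ?_)
    refine (Category.assoc _ _ _).symm.trans ((congrArg (· ≫ _) (galAct_snd τ)).trans ?_)
    refine (Category.assoc _ _ _).trans ((congrArg (_ ≫ ·) h1).trans ?_)
    refine (Category.assoc _ _ _).symm.trans ((congrArg (· ≫ _) (bcMap_snd _).symm).trans ?_)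
    refine (Category.assoc _ _ _).trans ((congrArg (_ ≫ ·) (galAct_snd σ).symm).trans ?_)
    exact (Category.assoc _ _ _).symm

section Point

variable {κ : Type u} [Field κ] [Algebra k κ] (ι : Spec (CommRingCat.of κ) ⟶ X)
  (hι : ι ≫ (X ↘ Spec (CommRingCat.of k)) = Spec.map (CommRingCat.ofHom (algebraMap k κ)))

lemma fibreMap_galAct (σ : K ≃ₐ[k] K) :
    fibreMap (X ↘ Spec (CommRingCat.of k)) ι hι K ≫ Curv2.galAct k X K σ =
      Spec.map (CommRingCat.ofHom (Algebra.TensorProduct.map (AlgHom.id k κ)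
        (σ : K →ₐ[k] K)).toRingHom) ≫ fibreMap (X ↘ Spec (CommRingCat.of k)) ι hι K := by
  refine pullback.hom_ext ?_ ?_
  · refine (Category.assoc _ _ _).trans ((congrArg (_ ≫ ·) (galAct_fst σ)).trans ?_)
    refine (bcChart_fst (X ↘ Spec (CommRingCat.of k)) ι K hι).trans ?_
    refine ((Category.assoc _ _ _).trans
      ((congrArg (_ ≫ ·) (bcChart_fst (X ↘ Spec (CommRingCat.of k)) ι K hι)).trans ?_)).symm
    rw [← Category.assoc, ← Spec.map_comp, ← CommRingCat.ofHom_comp]
    congr 3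
    ext a
    simp [Algebra.TensorProduct.algebraMap_apply]
  · refine (Category.assoc _ _ _).trans ((congrArg (_ ≫ ·) (galAct_snd σ)).trans ?_)
    refine ((Category.assoc _ _ _).symm.trans
      (congrArg (· ≫ _) (bcChart_snd (X ↘ Spec (CommRingCat.of k)) K ι hι))).trans ?_
    refine ((Category.assoc _ _ _).trans
      ((congrArg (_ ≫ ·) (bcChart_snd (X ↘ Spec (CommRingCat.of k)) K ι hι)).trans ?_)).symm
    rw [← Spec.map_comp, ← Spec.map_comp, ← CommRingCat.ofHom_comp, ← CommRingCat.ofHom_comp]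
    congr 2

include hι in
/-- Transitivity over an algebraically closed field. -/
lemma exists_galAct_eq_algClosed [IsAlgClosed K] [Algebra.IsAlgebraic k K]
    {a b : ↥(pullback (X ↘ Spec (CommRingCat.of k)) (specMap k K))}
    (ha : pullback.fst (X ↘ Spec (CommRingCat.of k)) (specMap k K) a ∈ Set.range ι)
    (hb : pullback.fst (X ↘ Spec (CommRingCat.of k)) (specMap k K) b ∈ Set.range ι) :
    ∃ σ : K ≃ₐ[k] K, Curv2.galAct k X K σ a = b := by
  obtain ⟨P, rfl⟩ := (range_fibreMap (X ↘ Spec (CommRingCat.of k)) ι hι K).ge ha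
  obtain ⟨Q, rfl⟩ := (range_fibreMap (X ↘ Spec (CommRingCat.of k)) ι hι K).ge hb
  have := P.isPrime
  have := Q.isPrime
  obtain ⟨φ, hφ⟩ := exists_compatible P.asIdeal fun c ↦ IsAlgClosed.splits _
  obtain ⟨ψ, hψ⟩ := exists_compatible Q.asIdeal fun c ↦ IsAlgClosed.splits _
  have : Normal k K := normal_iff.mpr fun x ↦ ⟨Algebra.IsIntegral.isIntegral x, IsAlgClosed.splits _⟩
  let χ : ψ.fieldRange ≃ₐ[k] φ.fieldRange :=
    (AlgEquiv.ofInjectiveField ψ).symm.trans (AlgEquiv.ofInjectiveField φ)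
  let σ : K ≃ₐ[k] K := χ.liftNormal K
  have hσ : ∀ c, σ (ψ c) = φ c := fun c ↦ by
    have h := χ.liftNormal_commutes K (AlgEquiv.ofInjectiveField ψ c)
    have e : χ (AlgEquiv.ofInjectiveField ψ c) = AlgEquiv.ofInjectiveField φ c :=
      congrArg (AlgEquiv.ofInjectiveField φ) ((AlgEquiv.ofInjectiveField ψ).symm_apply_apply c)
    rw [e] at h
    exact h
  refine ⟨σ, ?_⟩
  rw [← Scheme.Hom.comp_apply, fibreMap_galAct ι hι, Scheme.Hom.comp_apply]
  refine congrArg _ ((existsUnique_prime ψ).unique (fun c ↦ ?_) hψ)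
  change (c : κ) ⊗ₜ[k] (1 : K) - 1 ⊗ₜ[k] ψ c ∈
    P.asIdeal.comap (Algebra.TensorProduct.map (AlgHom.id k κ) (σ : K →ₐ[k] K))
  rw [Ideal.mem_comap]
  simpa [hσ c] using hφ c

end Point

/-- The automorphisms of a normal extension act transitively on the fibres. -/
lemma exists_galAct_eq [Normal k K] {a b : ↥(pullback (X ↘ Spec (CommRingCat.of k)) (specMap k K))}
    (h : pullback.fst (X ↘ Spec (CommRingCat.of k)) (specMap k K) a = pullback.fst (X ↘ Spec (CommRingCat.of k)) (specMap k K) b) :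
    ∃ σ : K ≃ₐ[k] K, Curv2.galAct k X K σ a = b := by
  let L := AlgebraicClosure K
  have : Algebra.IsAlgebraic k L := Algebra.IsAlgebraic.trans k K L
  let q := bcMap (X ↘ Spec (CommRingCat.of k)) (K := K) (L := L)
  obtain ⟨a', rfl⟩ := (surjective_bcMap (X ↘ Spec (CommRingCat.of k)) (K := K) (L := L)).surj a
  obtain ⟨b', rfl⟩ := (surjective_bcMap (X ↘ Spec (CommRingCat.of k)) (K := K) (L := L)).surj b
  rw [← Scheme.Hom.comp_apply, ← Scheme.Hom.comp_apply, bcMap_fst] at h
  obtain ⟨κ, _, _, ι, _, hι, hr⟩ := exists_point (X ↘ Spec (CommRingCat.of k)) (pullback.fst (X ↘ Spec (CommRingCat.of k)) (specMap k L) a')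
  obtain ⟨τ, hτ⟩ := exists_galAct_eq_algClosed ι hι (hr.ge rfl) (hr.ge h.symm)
  refine ⟨τ.restrictNormal K, ?_⟩
  rw [← Scheme.Hom.comp_apply, ← galAct_bcMap (τ.restrictNormal K) τ
    fun x ↦ (τ.restrictNormal_commutes K x).symm, Scheme.Hom.comp_apply, hτ]

end Groth.Agent.VarBC
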