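import Groth.Agent.S4643
import Groth.Agent.VarDim.Scheme

/-!
Dimensions of point closures in schemes over a field.
-/

set_option autoImplicit false
universe u

open CategoryTheory Limits AlgebraicGeometry TopologicalSpace

namespace Groth.Agent.VarBC.Dim

variable (k : Type u) [Field k] {X : Scheme.{u}} [X.Over (Spec (CommRingCat.of k))]
  [LocallyOfFiniteType (X ↘ Spec (CommRingCat.of k))]

/-- The dimension of the closure of a point is the transcendence degree of its residue field. -/
theorem topDim_closure (η : X) :
    topologicalKrullDim (closure {η} : Set X) = (VarDim.dimPt k X η : WithBot ℕ∞) := by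
  have : QuasiSober (closure {η} : Set X) := isClosed_closure.isClosedEmbedding_subtypeVal.quasiSober
  rw [← WithBot.coe_natCast, ← VarDim.height_eq_dimPt k, Order.height_eq_krullDim_Iic]
  letI o : PartialOrder (closure {η} : Set X) := specializationOrder _
  have h1 : topologicalKrullDim (closure {η} : Set X) =
      @Order.krullDim (closure {η} : Set X) o.toPreorder :=
    @Order.krullDim_eq_of_orderIso _ _ _ o.toPreorder irreducibleSetEquivPoints
  rw [h1]
  refine @Order.krullDim_eq_of_orderIso _ _ o.toPreorder _ ?_
  exact
    { toFun := fun z ↦ ⟨z.1, (specializes_iff_mem_closure.mpr z.2 : η ⤳ z.1)⟩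
      invFun := fun z ↦ ⟨z.1, specializes_iff_mem_closure.mp (z.2 : η ⤳ z.1)⟩
      left_inv := fun _ ↦ rfl
      right_inv := fun _ ↦ rfl
      map_rel_iff' := fun {a b} ↦ (subtype_specializes_iff b a).symm }

end Groth.Agent.VarBC.Dim
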