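import Groth.Agent.FBase.IrredComp
import Groth.Prelude.Def_CurvBase

/-!
Geometric irreducibility and connectedness criteria for schemes over a field.
-/

set_option autoImplicit false
universe u

open CategoryTheory Limits AlgebraicGeometry TensorProduct
open Groth.Agent.FBase.BC Groth.Agent.FBase.BC2 Groth.Agent.FBase.PointScheme
open Groth.Agent.FBase.SepClosed Groth.Agent.FBase.Components Groth.Agent.FBase.Topo
open Groth.Agent.FBase.ConnComp Groth.Agent.FBase.IrredComp

namespace Groth.Agent.VarBC

variable {k : Type u} [Field k]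

/-- `resMap` is the map on spectra induced by the point. -/
lemma fromSpecResidueField_comp (X : Scheme.{u}) [X.Over (Spec (CommRingCat.of k))] (x : X) :
    X.fromSpecResidueField x ≫ (X ↘ Spec (CommRingCat.of k)) =
      Spec.map (CommRingCat.ofHom (Curv2.resMap k X x)) := by
  rw [Scheme.fromSpecResidueField, Category.assoc]
  have h : X.fromSpecStalk x ≫ (X ↘ Spec (CommRingCat.of k)) =
      Spec.map (CommRingCat.ofHom (Curv2.stalkMap k X x)) := by
    apply ext_of_isAffine
    rw [Scheme.Hom.comp_appTop, Scheme.fromSpecStalk_appTop,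
      ← cancel_epi (Scheme.ΓSpecIso (CommRingCat.of k)).inv]
    erw [← Scheme.ΓSpecIso_inv_naturality]
    rfl
  rw [h, ← Spec.map_comp]
  rfl

lemma isPrime_nilradical_of_algHom {A B : Type u} [CommRing A] [CommRing B] [Algebra k A]
    [Algebra k B] (g : A →ₐ[k] B) (hg : Function.Injective g) (h : (nilradical B).IsPrime) :
    (nilradical A).IsPrime :=
  haveI := h
  Groth.Agent.FBase.TensorAlgClosed.isPrime_nilradical_of_injective g.toRingHom hg

lemma injective_map_val {F κ K : Type u} [Field F] [Field κ] [Field K] [Algebra k F] [Algebra k κ]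
    [Algebra k K] (v : F →ₐ[k] κ) :
    Function.Injective (Algebra.TensorProduct.map v (AlgHom.id k K)) := by
  intro x y h
  have e : ∀ z, Algebra.TensorProduct.map v (AlgHom.id k K) z = LinearMap.rTensor K v.toLinearMap z := by
    intro z
    induction z using TensorProduct.induction_on with
    | zero => simp
    | tmul a b => simp
    | add a b ha hb => simp [map_add, ha, hb]
  rw [e, e] at h
  exact Module.Flat.rTensor_preserves_injective_linearMap (M := K) v.toLinearMap v.injective h

/-- If `F ⊗ K` is irreducible and `j : F → K`, all embeddings of `F` agree with `j`. -/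
lemma algHom_eq_of_isPrime_nilradical {F K : Type u} [Field F] [Field K] [Algebra k F]
    [Algebra k K] [FiniteDimensional k F] (h : (nilradical (F ⊗[k] K)).IsPrime)
    (j : F →ₐ[k] K) (σ : F →ₐ[k] AlgebraicClosure K) (b : F) :
    σ b = algebraMap K (AlgebraicClosure K) (j b) := by
  have h' := isPrime_nilradical_of_algHom (Algebra.TensorProduct.comm k K F).toAlgHom
    (Algebra.TensorProduct.comm k K F).injective h
  have := subsingleton_primeSpectrum_of_isIntegral (κ := K) (A := K ⊗[k] F) h'
  let i : K →ₐ[k] AlgebraicClosure K := IsScalarTower.toAlgHom k K _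
  let Φ₁ : K ⊗[k] F →ₐ[k] AlgebraicClosure K := Algebra.TensorProduct.productMap i (i.comp j)
  let Φ₂ : K ⊗[k] F →ₐ[k] AlgebraicClosure K := Algebra.TensorProduct.productMap i σ
  have hker : RingHom.ker Φ₁.toRingHom = RingHom.ker Φ₂.toRingHom :=
    congrArg PrimeSpectrum.asIdeal (Subsingleton.elim
      (⟨_, RingHom.ker_isPrime Φ₁.toRingHom⟩ : PrimeSpectrum (K ⊗[k] F))
      ⟨_, RingHom.ker_isPrime Φ₂.toRingHom⟩)
  have h1 : (1 : K) ⊗ₜ[k] b - j b ⊗ₜ[k] (1 : F) ∈ RingHom.ker Φ₁.toRingHom := by
    show Φ₁ _ = 0
    simp [Φ₁]
  rw [hker] at h1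
  have h3 : Φ₂ ((1 : K) ⊗ₜ[k] b - j b ⊗ₜ[k] (1 : F)) = 0 := h1
  simpa [Φ₂, i, sub_eq_zero] using h3

/-- A point with its residue field as an abstract field, retaining a property of it. -/
lemma exists_point_res (X : Scheme.{u}) [X.Over (Spec (CommRingCat.of k))] (x : X)
    (P : ∀ (K : Type u) [Field K] [Algebra k K], Prop)
    (h : letI := Curv2.resAlgebra k X x; P (X.residueField x)) :
    ∃ (κ : Type u) (_ : Field κ) (_ : Algebra k κ) (ι : Spec (CommRingCat.of κ) ⟶ X),
      IsPreimmersion ι ∧
        ι ≫ (X ↘ Spec (CommRingCat.of k)) = Spec.map (CommRingCat.ofHom (algebraMap k κ)) ∧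
        Set.range ι = {x} ∧ P κ :=
  exists_point_of_residueFieldProp _ ⟨Curv2.resMap k X x, (fromSpecResidueField_comp X x).symm, h⟩

/-- A field in which a separable `a` lies outside `k` does not stay irreducible after tensoring
with a field receiving `k(a)`. -/
lemma mem_range_of_irreducibleSpace_tensor {κ K : Type u} [Field κ] [Field K] [Algebra k κ]
    [Algebra k K] (hirr : IrreducibleSpace (PrimeSpectrum (κ ⊗[k] K))) {a : κ}
    (ha : IsSeparable k a) (j : IntermediateField.adjoin k {a} →ₐ[k] K) :
    a ∈ Set.range (algebraMap k κ) := by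
  by_contra ha'
  have hint : IsIntegral k a := ha.isIntegral
  have : FiniteDimensional k (IntermediateField.adjoin k {a}) :=
    IntermediateField.adjoin.finiteDimensional hint
  have hprime := isPrime_nilradical_of_algHom _
    (injective_map_val (K := K) (IntermediateField.adjoin k {a}).val)
    (PrimeSpectrum.irreducibleSpace_iff_isPrime_nilradical.mp hirr)
  let pb := IntermediateField.adjoin.powerBasis hint
  have hroot : ∀ β : AlgebraicClosure K, Polynomial.aeval β (minpoly k a) = 0 →
      β = algebraMap K (AlgebraicClosure K) (j pb.gen) := by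
    intro β hβ
    rw [← algHom_eq_of_isPrime_nilradical hprime j (pb.lift β (by
      rw [IntermediateField.adjoin.powerBasis_gen, IntermediateField.minpoly_gen]; exact hβ))]
    exact (pb.lift_gen _ _).symm
  have hsub : (minpoly k a).rootSet (AlgebraicClosure K) ⊆
      {algebraMap K (AlgebraicClosure K) (j pb.gen)} := fun β hβ ↦
    hroot β (Polynomial.mem_rootSet.mp hβ).2
  have hcard := Polynomial.card_rootSet_eq_natDegree (K := AlgebraicClosure K) ha
    (IsAlgClosed.splits _)
  rw [← Nat.card_eq_fintype_card] at hcard
  have hle := Nat.card_mono (Set.finite_singleton _) hsub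
  rw [hcard] at hle
  have hdeg : 1 < (minpoly k a).natDegree :=
    (minpoly.two_le_natDegree_iff hint).mpr fun ⟨c, hc⟩ ↦ ha' ⟨c, hc⟩
  simp at hle
  omega

variable {X : Scheme.{u}} (f : X ⟶ Spec (CommRingCat.of k))

section Point

variable {κ : Type u} [Field κ] [Algebra k κ] (ι : Spec (CommRingCat.of κ) ⟶ X) [IsPreimmersion ι]
  (hι : ι ≫ f = Spec.map (CommRingCat.ofHom (algebraMap k κ)))

include hι in
omit [IsPreimmersion ι] in
/-- Over a point with separably closed `k` the fibres in algebraic extensions are points. -/
lemma subsingleton_fibre (h : separableClosure k κ = ⊥) (K : Type u) [Field K] [Algebra k K]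
    [Algebra.IsAlgebraic k K] :
    (pullback.fst f (specMap k K) ⁻¹' Set.range ι).Subsingleton := by
  rw [← range_fibreMap f ι hι K]
  have : Subsingleton (PrimeSpectrum (κ ⊗[k] K)) :=
    subsingleton_primeSpectrum_of_isIntegral (κ := κ) (isPrime_nilradical_tensor h K)
  rintro _ ⟨P, rfl⟩ _ ⟨Q, rfl⟩
  exact congrArg _ (Subsingleton.elim (α := PrimeSpectrum (κ ⊗[k] K)) P Q)

end Point

/-- A space with a point which generalizes all others is irreducible. -/
lemma irreducibleSpace_of_forall_specializes {α : Type*} [TopologicalSpace α] {z : α}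
    (h : ∀ y, z ⤳ y) : IrreducibleSpace α := by
  rw [irreducibleSpace_def, Set.top_eq_univ,
    show (Set.univ : Set α) = closure {z} from
      (Set.eq_univ_of_forall fun y ↦ (h y).mem_closure).symm]
  exact isIrreducible_singleton.closure

/-- If `X ⊗ K` is irreducible, so is the fibre over the generic point. -/
lemma irreducibleSpace_tensor_genericPoint [IrreducibleSpace X] {κ : Type u} [Field κ]
    [Algebra k κ] (ι : Spec (CommRingCat.of κ) ⟶ X) [IsPreimmersion ι]
    (hι : ι ≫ f = Spec.map (CommRingCat.ofHom (algebraMap k κ)))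
    (hr : Set.range ι = {genericPoint X}) (K : Type u) [Field K] [Algebra k K]
    [IrreducibleSpace ↥(pullback f (specMap k K))] :
    IrreducibleSpace (PrimeSpectrum (κ ⊗[k] K)) := by
  let p := pullback.fst f (specMap k K)
  let ξ := genericPoint ↥(pullback f (specMap k K))
  have hξ : p ξ = genericPoint X :=
    ((generization_maximal_map p (fun v _ ↦ genericPoint_specializes v)
      (genericPoint_specializes _)).antisymm (genericPoint_specializes _)).eq
  obtain ⟨P, hP⟩ := (range_fibreMap f ι hι K).ge (hr.ge hξ)
  refine irreducibleSpace_of_forall_specializes (α := PrimeSpectrum (κ ⊗[k] K)) (z := P)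
    fun Q ↦ ?_
  apply (fibreMap f ι hι K).isEmbedding.isInducing.specializes_iff.mp
  exact hP.symm ▸ genericPoint_specializes _

/-- The generic fibre test for geometric irreducibility. -/
lemma geometricallyIrreducible_of_separableClosure_eq_bot [IrreducibleSpace X] {κ : Type u}
    [Field κ] [Algebra k κ] (ι : Spec (CommRingCat.of κ) ⟶ X)
    (hι : ι ≫ f = Spec.map (CommRingCat.ofHom (algebraMap k κ)))
    (hr : Set.range ι = {genericPoint X}) (h : separableClosure k κ = ⊥) :
    GeometricallyIrreducible f := by
  have hsub := hr ▸ subsingleton_fibre f ι hι h (AlgebraicClosure k)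
  refine ⟨geometrically_iff_of_commRing_of_isClosedUnderIsomorphisms.mpr fun L _ _ ↦ ?_⟩
  have h := isIrreducible_preimage_fst_of_point f (genericPoint_spec X) hsub (K := L)
  rw [Set.preimage_univ] at h
  exact (irreducibleSpace_def _).mpr h

/-- If all finite separable base changes are irreducible, `k` is separably closed in the function
field. -/
lemma separableClosure_eq_bot_of_finite [IrreducibleSpace X] {κ : Type u}
    [Field κ] [Algebra k κ] (ι : Spec (CommRingCat.of κ) ⟶ X) [IsPreimmersion ι]
    (hι : ι ≫ f = Spec.map (CommRingCat.ofHom (algebraMap k κ)))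
    (hr : Set.range ι = {genericPoint X})
    (h : ∀ (K : Type u) [Field K] [Algebra k K] [FiniteDimensional k K] [Algebra.IsSeparable k K],
      IrreducibleSpace ↥(pullback f (specMap k K))) : separableClosure k κ = ⊥ := by
  refine le_antisymm (fun a ha ↦ ?_) bot_le
  have ha' : IsSeparable k a := mem_separableClosure_iff.mp ha
  let F := IntermediateField.adjoin k {a}
  have : FiniteDimensional k F := IntermediateField.adjoin.finiteDimensional ha'.isIntegral
  have : Algebra.IsSeparable k F := (IntermediateField.isSeparable_adjoin_simple_iff_isSeparable k κ).mpr ha'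
  have := h F
  obtain ⟨c, hc⟩ := mem_range_of_irreducibleSpace_tensor
    (irreducibleSpace_tensor_genericPoint f ι hι hr F) ha' (AlgHom.id k F)
  exact IntermediateField.mem_bot.mpr ⟨c, hc⟩

/-- Geometric irreducibility can be tested on finite separable extensions. -/
lemma geometricallyIrreducible_of_finite
    (h : ∀ (K : Type u) [Field K] [Algebra k K] [FiniteDimensional k K] [Algebra.IsSeparable k K],
      IrreducibleSpace ↥(pullback f (specMap k K))) : GeometricallyIrreducible f := by
  have := h k
  have := surjective_pullback_fst (K := k) f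
  have := irreducibleSpace_of_surjective (pullback.fst f (specMap k k))
  obtain ⟨κ, _, _, ι, _, hι, hr⟩ := exists_point f (genericPoint X)
  exact geometricallyIrreducible_of_separableClosure_eq_bot f ι hι hr
    (separableClosure_eq_bot_of_finite f ι hι hr h)

/-- Irreducibility of `X ×ₖ X` implies geometric irreducibility. -/
lemma geometricallyIrreducible_of_self [IrreducibleSpace ↥(pullback f f)] :
    GeometricallyIrreducible f := by
  obtain ⟨z⟩ : Nonempty ↥(pullback f f) := inferInstance
  have : Nonempty X := ⟨pullback.fst f f z⟩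
  have : Surjective f := ⟨fun y ↦ ⟨pullback.fst f f z, Subsingleton.elim _ _⟩⟩
  have hs : Surjective (pullback.fst f f) := inferInstance
  have := irreducibleSpace_of_surjective (pullback.fst f f)
  obtain ⟨κ, _, _, ι, _, hι, hr⟩ := exists_point f (genericPoint X)
  let φ : pullback f (specMap k κ) ⟶ pullback f f :=
    pullback.map f (specMap k κ) f f (𝟙 X) ι (𝟙 _) (by simp) (by simp [hι, specMap])
  have hrange : Set.range φ = pullback.snd f f ⁻¹' {genericPoint X} := by
    rw [Scheme.Pullback.range_map, hr]
    simp
  have hsq : IsPullback φ (pullback.snd f (specMap k κ)) (pullback.snd f f) ι := by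
    refine IsPullback.of_right (h₁₂ := pullback.fst f f) (v₁₃ := f) (h₂₂ := f) ?_ ?_
      (IsPullback.of_hasPullback f f)
    · rw [pullback.lift_fst, Category.comp_id, hι]
      exact IsPullback.of_hasPullback f (specMap k κ)
    · exact pullback.lift_snd _ _ _
  have : IsPreimmersion φ := MorphismProperty.of_isPullback (P := @IsPreimmersion) hsq.flip inferInstance
  have hflat : Flat (pullback.snd f f) := by
    have : Flat f := inferInstance
    infer_instance
  let ξ := genericPoint ↥(pullback f f)
  have hξ : pullback.snd f f ξ = genericPoint X :=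
    ((generization_maximal_map (pullback.snd f f) (fun v _ ↦ genericPoint_specializes v)
      (genericPoint_specializes _)).antisymm (genericPoint_specializes _)).eq
  obtain ⟨w, hw⟩ : ξ ∈ Set.range φ := hrange.ge hξ
  have : IrreducibleSpace ↥(pullback f (specMap k κ)) :=
    irreducibleSpace_of_forall_specializes (z := w) fun y ↦ by
      rw [← φ.isEmbedding.isInducing.specializes_iff, hw]
      exact genericPoint_specializes _
  refine geometricallyIrreducible_of_separableClosure_eq_bot f ι hι hr
    (le_antisymm (fun a ha ↦ ?_) bot_le)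
  obtain ⟨c, hc⟩ := mem_range_of_irreducibleSpace_tensor
    (irreducibleSpace_tensor_genericPoint f ι hι hr κ) (mem_separableClosure_iff.mp ha)
    (IntermediateField.adjoin k {a}).val
  exact IntermediateField.mem_bot.mpr ⟨c, hc⟩

/-- A point with residue field `k` has one point over it in every extension. -/
lemma subsingleton_fibre_of_surjective {κ : Type u} [Field κ] [Algebra k κ]
    (ι : Spec (CommRingCat.of κ) ⟶ X) (hι : ι ≫ f = Spec.map (CommRingCat.ofHom (algebraMap k κ)))
    (h : Function.Surjective (algebraMap k κ)) (K : Type u) [Field K] [Algebra k K] :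
    (pullback.fst f (specMap k K) ⁻¹' Set.range ι).Subsingleton := by
  rw [← range_fibreMap f ι hι K]
  let r : K →+* κ ⊗[k] K := (Algebra.TensorProduct.includeRight (R := k) (A := κ)).toRingHom
  have hr : Function.Surjective r := by
    intro z
    induction z using TensorProduct.induction_on with
    | zero => exact ⟨0, map_zero r⟩
    | tmul a b =>
      obtain ⟨c, rfl⟩ := h a
      refine ⟨c • b, ?_⟩
      show (1 : κ) ⊗ₜ[k] (c • b) = _
      rw [← TensorProduct.smul_tmul, Algebra.smul_def, mul_one]
    | add x y hx hy =>
      obtain ⟨a, rfl⟩ := hx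
      obtain ⟨b, rfl⟩ := hy
      exact ⟨a + b, map_add r a b⟩
  rintro _ ⟨P, rfl⟩ _ ⟨Q, rfl⟩
  refine congrArg _ (PrimeSpectrum.comap_injective_of_surjective r hr ?_)
  exact Subsingleton.elim (α := PrimeSpectrum K) _ _

/-- Dense rational points force geometric irreducibility. -/
lemma geometricallyIrreducible_of_dense_subsingleton_fibres [IrreducibleSpace X] (s : Set X)
    (hs : Dense s) (hfib : ∀ (K : Type u) [Field K] [Algebra k K], ∀ x ∈ s,
      (pullback.fst f (specMap k K) ⁻¹' {x}).Subsingleton) : GeometricallyIrreducible f := by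
  refine ⟨geometrically_iff_of_commRing_of_isClosedUnderIsomorphisms.mpr fun K _ _ ↦ ?_⟩
  let p := pullback.fst f (specMap k K)
  have := surjective_pullback_fst (K := K) f
  obtain ⟨y, hy⟩ := p.surjective (genericPoint X)
  have : Nonempty ↥(pullback f (specMap k K)) := ⟨y⟩
  refine (irreducibleSpace_def _).mpr ⟨Set.univ_nonempty, fun U V hU hV hne hne' ↦ ?_⟩
  rw [Set.top_eq_univ, Set.univ_inter] at hne hne'
  rw [Set.top_eq_univ, Set.univ_inter]
  obtain ⟨x, ⟨⟨a, ha, hax⟩, ⟨b, hb, hbx⟩⟩, hxs⟩ := hs.inter_open_nonempty _
    ((p.isOpenMap U hU).inter (p.isOpenMap V hV))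
    (nonempty_preirreducible_inter (p.isOpenMap U hU) (p.isOpenMap V hV) (hne.image p)
      (hne'.image p))
  exact ⟨a, ha, hfib K x hxs hbx hax ▸ hb⟩

/-- A connected scheme with a point in whose residue field `k` is separably closed is
geometrically connected. -/
lemma geometricallyConnected_of_point [ConnectedSpace X] {κ : Type u} [Field κ] [Algebra k κ]
    (ι : Spec (CommRingCat.of κ) ⟶ X)
    (hι : ι ≫ f = Spec.map (CommRingCat.ofHom (algebraMap k κ)))
    (h : separableClosure k κ = ⊥) : GeometricallyConnected f := by
  refine ⟨geometrically_iff_of_commRing_of_isClosedUnderIsomorphisms.mpr fun K _ _ ↦ ?_⟩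
  have hu := isConnected_preimage_fst_of_set f (K := K) isConnected_univ (Set.subset_univ _)
    (Set.range_nonempty ι) (subsingleton_fibre f ι hι h (AlgebraicClosure k)).isPreconnected
  rw [Set.preimage_univ] at hu
  exact connectedSpace_iff_univ.mpr hu

end Groth.Agent.VarBC
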