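import Mathlib.RingTheory.AlgebraicIndependent.AlgebraicClosure
import Mathlib.FieldTheory.IntermediateField.Adjoin.Algebra
import Mathlib.FieldTheory.SeparableClosure
import Mathlib.RingTheory.Localization.Module

/-!
In a finitely generated field extension the algebraic closure of the base field is finite.
-/

set_option autoImplicit false
universe u

open scoped IntermediateField.algebraAdjoinAdjoin

namespace Groth.Agent.VarBC

variable {F E : Type u} [Field F] [Field E] [Algebra F E]

theorem finiteDimensional_algebraicClosure [Algebra.EssFiniteType F E] :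
    FiniteDimensional F (algebraicClosure F E) := by
  obtain ⟨s₀, hs₀⟩ := IntermediateField.fg_top F E
  have : Algebra.IsAlgebraic (Algebra.adjoin F (s₀ : Set E)) E := by
    rw [← IntermediateField.isAlgebraic_adjoin_iff_top, hs₀, Algebra.isAlgebraic_iff_isIntegral]
    exact Algebra.isIntegral_of_surjective IntermediateField.topEquiv.surjective
  obtain ⟨t, -, ht⟩ := exists_isTranscendenceBasis_subset (R := F) (s₀ : Set E)
  have halg : Algebra.IsAlgebraic (IntermediateField.adjoin F t) E := by
    convert! ht.isAlgebraic_field <;> simp
  have : Algebra.EssFiniteType (IntermediateField.adjoin F t) E := .of_comp F _ _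
  have : Module.Finite (IntermediateField.adjoin F t) E :=
    Algebra.finite_of_essFiniteType_of_isAlgebraic
  let A := algebraicClosure F E
  have hA : AlgebraicIndependent A ((↑) : t → E) := ht.1.algebraicClosure
  let b := Module.Basis.ofVectorSpace F A
  have key : LinearIndependent (Algebra.adjoin F t) (fun i ↦ ((b i : A) : E)) := by
    rw [linearIndependent_iff']
    intro S g hg i hi
    have hx : ∀ j, ∃ P : MvPolynomial t F, MvPolynomial.aeval ((↑) : t → E) P = (g j : E) := by
      intro j
      have hj := (g j).2
      obtain ⟨P, hP⟩ := (SetLike.ext_iff.mp (Algebra.adjoin_eq_range F t) _).mp hj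
      exact ⟨P, hP⟩
    choose P hP using hx
    let Q : MvPolynomial t A := ∑ j ∈ S, MvPolynomial.C (b j) * MvPolynomial.map (algebraMap F A) (P j)
    have hQ : MvPolynomial.aeval ((↑) : t → E) Q = 0 := by
      simp only [Q, map_sum, map_mul, MvPolynomial.aeval_C, MvPolynomial.aeval_map_algebraMap, hP]
      refine Eq.trans (Finset.sum_congr rfl fun j _ ↦ ?_) hg
      rw [Subalgebra.smul_def, smul_eq_mul, mul_comm]
      rfl
    have hQ0 : Q = 0 := hA.eq_zero_of_aeval_eq_zero Q hQ
    have hPi : P i = 0 := by
      refine MvPolynomial.ext _ _ fun m ↦ ?_
      have h := congrArg (MvPolynomial.coeff m) hQ0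
      simp only [Q, MvPolynomial.coeff_sum, MvPolynomial.coeff_C_mul, MvPolynomial.coeff_map,
        MvPolynomial.coeff_zero] at h ⊢
      refine linearIndependent_iff'.mp b.linearIndependent S (fun j ↦ (P j).coeff m) ?_ i hi
      refine Eq.trans (Finset.sum_congr rfl fun j _ ↦ ?_) h
      rw [Algebra.smul_def, mul_comm]
    exact Subtype.ext (by rw [← hP i, hPi, map_zero, ZeroMemClass.coe_zero])
  have key' : LinearIndependent (IntermediateField.adjoin F t) (fun i ↦ ((b i : A) : E)) :=
    (LinearIndependent.iff_fractionRing (R := Algebra.adjoin F t)
      (K := IntermediateField.adjoin F t)).mp key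
  have := key'.finite
  exact b.finiteDimensional_of_finite

theorem finiteDimensional_separableClosure [Algebra.EssFiniteType F E] :
    FiniteDimensional F (separableClosure F E) := by
  have := finiteDimensional_algebraicClosure (F := F) (E := E)
  exact Module.Finite.of_injective
    (IntermediateField.inclusion (K := F) (E := separableClosure F E) (F := algebraicClosure F E)
      fun x hx ↦ mem_algebraicClosure_iff.mpr (mem_separableClosure_iff.mp hx).isIntegral.isAlgebraic).toLinearMap
    (RingHom.injective _)

end Groth.Agent.VarBC
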