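import Groth.Agent.FBase.Topology
import Mathlib.Topology.Connected.Clopen
import Mathlib.Topology.Compactness.Compact

/-!
Connected components along a directed family of open and closed finite-fibred quotients.
-/

set_option autoImplicit false
universe u

open Topology Set

namespace Groth.Agent.VarBC.TowerTop

variable {X Y : Type u} [TopologicalSpace X] [TopologicalSpace Y] [ConnectedSpace X]
  {ι : Type*} [Nonempty ι] {Z : ι → Type u} [∀ i, TopologicalSpace (Z i)]
  {π : Y → X} {q : ∀ i, Y → Z i} {p : ∀ i, Z i → X}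

/-- The hypotheses on a family of intermediate quotients. -/
structure IsTower (π : Y → X) (q : ∀ i, Y → Z i) (p : ∀ i, Z i → X) : Prop where
  continuous_π : Continuous π
  continuous_q : ∀ i, Continuous (q i)
  isOpenMap_q : ∀ i, IsOpenMap (q i)
  isClosedMap_q : ∀ i, IsClosedMap (q i)
  surjective_q : ∀ i, Function.Surjective (q i)
  isCompact_fibre_q : ∀ i z, IsCompact (q i ⁻¹' {z})
  continuous_p : ∀ i, Continuous (p i)
  isOpenMap_p : ∀ i, IsOpenMap (p i)
  isClosedMap_p : ∀ i, IsClosedMap (p i)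
  surjective_p : ∀ i, Function.Surjective (p i)
  finite_fibre_p : ∀ i x, (p i ⁻¹' {x}).Finite
  fac : ∀ i y, p i (q i y) = π y
  directed : ∀ i j, ∃ m, (∀ a b, q m a = q m b → q i a = q i b) ∧
    (∀ a b, q m a = q m b → q j a = q j b)
  separated : ∀ A B : Set Y, IsClosed A → IsClosed B → Disjoint A B → ∀ x : X,
    ∃ W : Set X, IsOpen W ∧ x ∈ W ∧ ∃ i, ∀ a ∈ A, π a ∈ W → ∀ b ∈ B, q i a ≠ q i b

variable (h : IsTower π q p)

include h

omit [Nonempty ι] in
lemma isClopen_component (i : ι) (z : Z i) : IsClopen (connectedComponent z) := by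
  obtain ⟨x₀⟩ : Nonempty X := inferInstance
  have hmeet : ∀ U : Set (Z i), IsClopen U → U.Nonempty → (U ∩ p i ⁻¹' {x₀}).Nonempty :=
    fun U hU hne ↦ Groth.Agent.FBase.Topo.clopen_meets_of_isOpenMap_of_isClosedMap
      (h.isOpenMap_p i) (h.isClosedMap_p i)
      (S := {x₀}) (fun x ↦ ⟨x₀, rfl, (PreconnectedSpace.connectedComponent_eq_univ x).symm ▸ mem_univ _⟩)
      U hU hne
  have hfin := (Groth.Agent.FBase.Topo.finite_connectedComponents_of_clopen_meets
    (h.finite_fibre_p i x₀) hmeet).1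
  refine ⟨isClosed_connectedComponent, ?_⟩
  have hone : ∀ c : ConnectedComponents (Z i), IsClosed (ConnectedComponents.mk ⁻¹' {c}) := fun c ↦ by
    obtain ⟨w, rfl⟩ := ConnectedComponents.surjective_coe c
    rw [connectedComponents_preimage_singleton]
    exact isClosed_connectedComponent
  rw [← isClosed_compl_iff, show (connectedComponent z)ᶜ =
    ⋃ c ∈ ({ConnectedComponents.mk z}ᶜ : Set (ConnectedComponents (Z i))),
      ConnectedComponents.mk ⁻¹' {c} by
    rw [biUnion_preimage_singleton, preimage_compl, connectedComponents_preimage_singleton]]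
  exact (Set.toFinite _).isClosed_biUnion fun c _ ↦ hone c

/-- The intersection of the preimages of the components. -/
def core (_h : IsTower π q p) (y : Y) : Set Y := ⋂ i, q i ⁻¹' connectedComponent (q i y)

omit [ConnectedSpace X] [Nonempty ι] in
lemma mem_component_of_factor {m i : ι} (hf : ∀ a b, q m a = q m b → q i a = q i b) {y z : Y}
    (hz : q m z ∈ connectedComponent (q m y)) : q i z ∈ connectedComponent (q i y) := by
  classical
  let g : Z m → Z i := fun w ↦ q i (h.surjective_q m w).choose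
  have hg : ∀ a, g (q m a) = q i a := fun a ↦ hf _ _ (h.surjective_q m (q m a)).choose_spec
  have hgc : Continuous g := by
    have hq : IsQuotientMap (q m) :=
      (h.isOpenMap_q m).isQuotientMap (h.continuous_q m) (h.surjective_q m)
    rw [hq.continuous_iff, show g ∘ q m = q i from funext hg]
    exact h.continuous_q i
  rw [← hg, ← hg]
  exact hgc.image_connectedComponent_subset _ (mem_image_of_mem g hz)

/-- The core surjects on every component. -/
lemma exists_mem_core (y : Y) (m : ι) {z : Z m} (hz : z ∈ connectedComponent (q m y)) :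
    ∃ t ∈ core h y, q m t = z := by
  have hcl : ∀ i, IsClosed (q i ⁻¹' connectedComponent (q i y)) :=
    fun i ↦ isClosed_connectedComponent.preimage (h.continuous_q i)
  have key : ∀ i, ∃ t, q m t = z ∧ q i t ∈ connectedComponent (q i y) := by
    intro i
    obtain ⟨n, hnm, hni⟩ := h.directed m i
    let g : Set (Z m) := q m '' (q n ⁻¹' connectedComponent (q n y))
    have hg : IsClopen g := ⟨h.isClosedMap_q m _ ((isClopen_component h n _).1.preimage (h.continuous_q n)),
      h.isOpenMap_q m _ ((isClopen_component h n _).2.preimage (h.continuous_q n))⟩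
    obtain ⟨t, ht, rfl⟩ := hg.connectedComponent_subset
      ⟨y, (mem_connectedComponent : q n y ∈ connectedComponent (q n y)), rfl⟩ hz
    exact ⟨t, rfl, mem_component_of_factor h hni ht⟩
  by_contra hne
  push Not at hne
  have hempty : q m ⁻¹' {z} ∩ ⋂ i, q i ⁻¹' connectedComponent (q i y) = ∅ :=
    eq_empty_of_forall_notMem fun t ht ↦ hne t ht.2 ht.1
  obtain ⟨i, hi⟩ := (h.isCompact_fibre_q m z).elim_directed_family_closed
    (fun i ↦ q i ⁻¹' connectedComponent (q i y)) hcl hempty fun i j ↦ by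
      obtain ⟨n, hni, hnj⟩ := h.directed i j
      exact ⟨n, fun t ht ↦ mem_component_of_factor h hni ht,
        fun t ht ↦ mem_component_of_factor h hnj ht⟩
  obtain ⟨t, ht1, ht2⟩ := key i
  exact (eq_empty_iff_forall_notMem.mp hi) t ⟨ht1, ht2⟩

lemma image_core (y : Y) : π '' core h y = univ := by
  obtain ⟨m⟩ := ‹Nonempty ι›
  refine eq_univ_of_forall fun x ↦ ?_
  have hT := isClopen_component h m (q m y)
  obtain ⟨z, hz, rfl⟩ : x ∈ p m '' connectedComponent (q m y) := by
    rw [IsClopen.eq_univ (s := p m '' connectedComponent (q m y))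
      ⟨h.isClosedMap_p m _ hT.1, h.isOpenMap_p m _ hT.2⟩
      ⟨_, q m y, mem_connectedComponent, rfl⟩]
    trivial
  obtain ⟨t, ht, rfl⟩ := exists_mem_core h y m hz
  exact ⟨t, ht, (h.fac m t).symm⟩

lemma isPreconnected_core (y : Y) : IsPreconnected (core h y) := by
  have hcl : IsClosed (core h y) :=
    isClosed_iInter fun i ↦ isClosed_connectedComponent.preimage (h.continuous_q i)
  rw [isPreconnected_iff_subset_of_fully_disjoint_closed hcl]
  intro A B hA hB hAB hd
  by_contra hn
  rw [not_or, not_subset, not_subset] at hn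
  obtain ⟨⟨b, hbT, hbA⟩, a, haT, haB⟩ := hn
  have hb : b ∈ B := (hAB hbT).resolve_left hbA
  have ha : a ∈ A := (hAB haT).resolve_right haB
  let A' := A ∩ core h y
  let B' := B ∩ core h y
  have hd' : Disjoint A' B' := hd.mono inter_subset_left inter_subset_left
  obtain ⟨W₀, hW₀, hx₀, m, hm⟩ := h.separated A' B' (hA.inter hcl) (hB.inter hcl) hd' (π a)
  let T := connectedComponent (q m y)
  let Am := q m '' A'
  let Bm := q m '' B'
  have hAm : IsClosed Am := h.isClosedMap_q m _ (hA.inter hcl)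
  have hBm : IsClosed Bm := h.isClosedMap_q m _ (hB.inter hcl)
  have hcov : T ⊆ Am ∪ Bm := by
    intro z hz
    obtain ⟨t, ht, rfl⟩ := exists_mem_core h y m hz
    exact (hAB ht).imp (fun h1 ↦ ⟨t, ⟨h1, ht⟩, rfl⟩) fun h1 ↦ ⟨t, ⟨h1, ht⟩, rfl⟩
  have hsubT : Am ⊆ T ∧ Bm ⊆ T :=
    ⟨image_subset_iff.mpr fun t ht ↦ mem_iInter.mp ht.2 m,
      image_subset_iff.mpr fun t ht ↦ mem_iInter.mp ht.2 m⟩
  have hopen : ∀ S R : Set Y, IsClosed S → IsClosed R → Disjoint S R → core h y ⊆ S ∪ R →
      S ⊆ core h y → IsOpen (q m '' S) := by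
    intro S R hS hR hSR hSRc hSc
    rw [isOpen_iff_forall_mem_open]
    rintro _ ⟨s, hs, rfl⟩
    obtain ⟨W, hW, hxW, i, hi⟩ := h.separated S R hS hR hSR (π s)
    obtain ⟨n, hnm, hni⟩ := h.directed m i
    let O : Set (Z n) := p n ⁻¹' W ∩ connectedComponent (q n y) ∩ (q n '' R)ᶜ
    have hO : IsOpen O := ((hW.preimage (h.continuous_p n)).inter (isClopen_component h n _).2).inter
      (h.isClosedMap_q n R hR).isOpen_compl
    refine ⟨q m '' (q n ⁻¹' O), ?_, h.isOpenMap_q m _ (hO.preimage (h.continuous_q n)),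
      ⟨s, ⟨⟨?_, mem_iInter.mp (hSc hs) n⟩, ?_⟩, rfl⟩⟩
    · rintro _ ⟨t, ⟨⟨htW, htT⟩, htR⟩, rfl⟩
      obtain ⟨t', ht', hte⟩ := exists_mem_core h y n htT
      exact ⟨t', (hSRc ht').resolve_right fun h1 ↦ htR ⟨t', h1, hte⟩, hnm _ _ hte⟩
    · show p n (q n s) ∈ W
      rwa [h.fac]
    · rintro ⟨r, hr, hre⟩
      exact hi s hs hxW r hr (hni _ _ hre.symm)
  have hcov' : core h y ⊆ A' ∪ B' := fun t ht ↦ (hAB ht).imp (⟨·, ht⟩) (⟨·, ht⟩)
  have hAo : IsOpen Am :=
    hopen A' B' (hA.inter hcl) (hB.inter hcl) hd' hcov' inter_subset_right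
  have hBo : IsOpen Bm :=
    hopen B' A' (hB.inter hcl) (hA.inter hcl) hd'.symm (by rwa [union_comm]) inter_subset_right
  have hI : p m '' (Am ∩ Bm) = ∅ := by
    by_contra hne
    have hu := IsClopen.eq_univ (s := p m '' (Am ∩ Bm))
      ⟨h.isClosedMap_p m _ (hAm.inter hBm), h.isOpenMap_p m _ (hAo.inter hBo)⟩
      (nonempty_iff_ne_empty.mpr hne)
    obtain ⟨z, ⟨⟨a', ha', rfl⟩, b', hb', hbe⟩, hz⟩ := hu.ge (mem_univ (π a))
    rw [h.fac] at hz
    exact hm a' ha' (hz.symm ▸ hx₀) b' hb' hbe.symm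
  have hpre : IsPreconnected T := isPreconnected_connectedComponent
  obtain ⟨z, -, hz⟩ := hpre Am Bm hAo hBo hcov
    ⟨q m a, hsubT.1 ⟨a, ⟨ha, haT⟩, rfl⟩, a, ⟨ha, haT⟩, rfl⟩
    ⟨q m b, hsubT.2 ⟨b, ⟨hb, hbT⟩, rfl⟩, b, ⟨hb, hbT⟩, rfl⟩
  exact (image_eq_empty.mp hI).le hz

/-- Every connected component surjects onto the base. -/
theorem image_connectedComponent (y : Y) : π '' connectedComponent y = univ :=
  univ_subset_iff.mp ((image_core h y).symm.le.trans (image_mono
    ((isPreconnected_core h y).subset_connectedComponent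
      (mem_iInter.mpr fun _ ↦ mem_connectedComponent))))

/-- If all stages are connected, so is the total space. -/
theorem preconnectedSpace [∀ i, PreconnectedSpace (Z i)] : PreconnectedSpace Y := by
  refine ⟨isPreconnected_of_forall_pair fun a _ b _ ↦ ⟨core h a, subset_univ _, ?_, ?_,
    isPreconnected_core h a⟩⟩
  · exact mem_iInter.mpr fun _ ↦ mem_connectedComponent
  · exact mem_iInter.mpr fun i ↦ by
      rw [mem_preimage, PreconnectedSpace.connectedComponent_eq_univ]
      trivial

end Groth.Agent.VarBC.TowerTop
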